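import Mathlib
import Cfsg.Agent.SUThree90.SubfieldMono
import Cfsg.Agent.S0205
import Cfsg.Agent.Subfield54.Basic

/-!
A group normalising a normal subgroup of odd order that contains the extraspecial group of order 27, and
containing the Fourier matrix, is rational up to scalars.
-/

set_option autoImplicit false

namespace CfsgLib.SUThree90

open Matrix
open scoped Fin.CommRing commutatorElement

set_option maxHeartbeats 1600000

variable {F : Type*} [Field F]

/-- The iterated commutator subgroups inside the ambient group. -/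
def chain (N : Subgroup (GL (Fin 3) F)) : ℕ → Subgroup (GL (Fin 3) F)
  | 0 => N
  | n + 1 => ⁅chain N n, chain N n⁆

theorem chain_eq_map (N : Subgroup (GL (Fin 3) F)) (n : ℕ) :
    chain N n = (derivedSeries N n).map N.subtype := by
  induction n with
  | zero => simp [chain, ← MonoidHom.range_eq_map]
  | succ n ih => rw [chain, ih, derivedSeries_succ, Subgroup.map_commutator]

theorem conj_mem_chain {N : Subgroup (GL (Fin 3) F)} {g : GL (Fin 3) F}
    (hg : ∀ n ∈ N, g * n * g⁻¹ ∈ N) : ∀ n, ∀ a ∈ chain N n, g * a * g⁻¹ ∈ chain N n := by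
  intro n
  induction n with
  | zero => exact hg
  | succ n ih =>
    intro a ha
    have hle : chain N (n + 1) ≤ (chain N (n + 1)).comap (MulAut.conj g).toMonoidHom := by
      show ⁅chain N n, chain N n⁆ ≤ _
      rw [Subgroup.commutator_le]
      intro x hx y hy
      rw [Subgroup.mem_comap, map_commutatorElement]
      exact Subgroup.commutator_mem_commutator (ih x hx) (ih y hy)
    simpa using hle ha

theorem scalar_of_center {g : GL (Fin 3) F} (hg : g ∈ Subgroup.center (GL (Fin 3) F)) :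
    ∃ k : F, (g : Matrix (Fin 3) (Fin 3) F) = k • 1 := by
  obtain ⟨k, hk⟩ := Matrix.GeneralLinearGroup.mem_center_iff_val_mem_range_scalar.mp hg
  exact ⟨k, by rw [← hk, smul_one_eq_diagonal]; rfl⟩

theorem center_of_scalar {g : GL (Fin 3) F} {k : F} (hg : (g : Matrix (Fin 3) (Fin 3) F) = k • 1) :
    g ∈ Subgroup.center (GL (Fin 3) F) :=
  Matrix.GeneralLinearGroup.mem_center_iff_val_mem_range_scalar.mpr
    ⟨k, by rw [hg, smul_one_eq_diagonal]; rfl⟩

theorem pow_three_of_commutator {a b : GL (Fin 3) F} (h : ⁅a, b⁆ ∈ Subgroup.center (GL (Fin 3) F)) :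
    ⁅a, b⁆ ^ 3 = 1 := by
  obtain ⟨k, hk⟩ := scalar_of_center h
  have hdet : (⁅a, b⁆ : GL (Fin 3) F).val.det = 1 := by
    have h1 : GeneralLinearGroup.det ⁅a, b⁆ = 1 := by
      rw [map_commutatorElement, commutatorElement_eq_one_iff_mul_comm]
      exact mul_comm _ _
    simpa [-map_commutatorElement] using congrArg Units.val h1
  rw [hk, det_smul, det_one, mul_one, Fintype.card_fin] at hdet
  exact Units.ext (by rw [Units.val_pow_eq_pow_val, hk, smul_pow, one_pow, hdet, one_smul]; rfl)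

/-- Equality of scalar classes. -/
theorem comm_of_center {a b : GL (Fin 3) F} (h : ⁅a, b⁆ ∈ Subgroup.center (GL (Fin 3) F)) :
    ∃ k : F, (a : Matrix (Fin 3) (Fin 3) F) * b = k • ((b : Matrix (Fin 3) (Fin 3) F) * a) := by
  obtain ⟨k, hk⟩ := scalar_of_center h
  refine ⟨k, ?_⟩
  have e : a * b = ⁅a, b⁆ * (b * a) := by rw [commutatorElement_def]; group
  have := congrArg Units.val e
  rw [Units.val_mul, Units.val_mul, hk, Units.val_mul, Matrix.smul_mul, one_mul] at this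
  exact this

variable [Fintype F] [CharP F 2] {ω : F}

/-- A commuting family normalised by the monomial group and the Fourier matrix is scalar. -/
theorem scalar_of_abelian (hω : ω ^ 2 + ω + 1 = 0) {x y s : GL (Fin 3) F}
    (hx : (x : Matrix (Fin 3) (Fin 3) F) = mono ω 1 0) (hy : (y : Matrix (Fin 3) (Fin 3) F) = mono ω 0 1)
    (hs : (s : Matrix (Fin 3) (Fin 3) F) = four ω) (A : Set (GL (Fin 3) F))
    (hA : ∀ a ∈ A, ∀ b ∈ A, a * b = b * a)
    (hinv : ∀ g, g = x ∨ g = y ∨ g = s → ∀ a ∈ A, g * a * g⁻¹ ∈ A) :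
    ∀ a ∈ A, a ∈ Subgroup.center (GL (Fin 3) F) := by
  set S := Submodule.span F ((fun a : GL (Fin 3) F => (a : Matrix (Fin 3) (Fin 3) F)) '' A) with hS
  have hcomm : ∀ u ∈ S, ∀ v ∈ S, u * v = v * u := by
    intro u hu v hv
    induction hu, hv using Submodule.span_induction₂ with
    | mem_mem u v hu hv =>
      obtain ⟨a, ha, rfl⟩ := hu
      obtain ⟨b, hb, rfl⟩ := hv
      exact congrArg Units.val (hA a ha b hb)
    | zero_left _ _ => simp
    | zero_right _ _ => simp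
    | add_left _ _ _ _ _ _ h1 h2 => rw [add_mul, mul_add, h1, h2]
    | add_right _ _ _ _ _ _ h1 h2 => rw [add_mul, mul_add, h1, h2]
    | smul_left _ _ _ _ _ h1 => rw [Matrix.smul_mul, Matrix.mul_smul, h1]
    | smul_right _ _ _ _ _ h1 => rw [Matrix.smul_mul, Matrix.mul_smul, h1]
  have hSinv : ∀ g, g = x ∨ g = y ∨ g = s → ∀ u ∈ S,
      (g : Matrix (Fin 3) (Fin 3) F) * u * ((g⁻¹ : GL (Fin 3) F) : Matrix (Fin 3) (Fin 3) F) ∈ S := by
    intro g hg u hu
    induction hu using Submodule.span_induction with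
    | mem u hu =>
      obtain ⟨a, ha, rfl⟩ := hu
      exact Submodule.subset_span ⟨_, hinv g hg a ha, by simp⟩
    | zero => simp
    | add _ _ _ _ h1 h2 => rw [mul_add, add_mul]; exact S.add_mem h1 h2
    | smul k _ _ h1 => rw [Matrix.mul_smul, Matrix.smul_mul]; exact S.smul_mem k h1
  have hx' : ((x⁻¹ : GL (Fin 3) F) : Matrix (Fin 3) (Fin 3) F) = mono ω 2 0 :=
    Units.inv_eq_of_mul_eq_one_right (by
      rw [hx, mono_mul hω, show (1 : Fin 3) + 2 = 0 by decide]; simp [pw_zero, mono_zero])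
  have hy' : ((y⁻¹ : GL (Fin 3) F) : Matrix (Fin 3) (Fin 3) F) = mono ω 0 2 :=
    Units.inv_eq_of_mul_eq_one_right (by
      rw [hy, mono_mul hω, show (1 : Fin 3) + 2 = 0 by decide]; simp [pw_zero, mono_zero])
  have hcX : ∀ u ∈ S, cX ω u ∈ S := fun u hu => by
    have := hSinv x (Or.inl rfl) u hu
    rwa [hx, hx'] at this
  have hcY : ∀ u ∈ S, cY ω u ∈ S := fun u hu => by
    have := hSinv y (Or.inr (Or.inl rfl)) u hu
    rwa [hy, hy'] at this
  intro a ha
  have haS : (a : Matrix (Fin 3) (Fin 3) F) ∈ S := Submodule.subset_span ⟨a, ha, rfl⟩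
  refine center_of_scalar (eq_smul_of_coef hω fun i j hij => ?_)
  by_contra hne
  have hmS : mono ω i j ∈ S := by
    have h1 : projX ω j (projY ω i (a : Matrix (Fin 3) (Fin 3) F)) ∈ S := by
      have hpy : projY ω i (a : Matrix (Fin 3) (Fin 3) F) ∈ S :=
        S.add_mem (S.add_mem haS (S.smul_mem _ (hcY _ haS))) (S.smul_mem _ (hcY _ (hcY _ haS)))
      exact S.add_mem (S.add_mem hpy (S.smul_mem _ (hcX _ hpy))) (S.smul_mem _ (hcX _ (hcX _ hpy)))
    rw [proj_eq hω] at h1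
    simpa [hne] using S.smul_mem (coef ω (a : Matrix (Fin 3) (Fin 3) F) i j)⁻¹ h1
  have hsm := hSinv s (Or.inr (Or.inr rfl)) _ hmS
  rw [hs, four_mul_mono hω, ← hs, Matrix.smul_mul, mul_assoc (mono ω (2 * j) i), ← Units.val_mul, mul_inv_cancel, Units.val_one,
    mul_one] at hsm
  have h2 : mono ω (2 * j) i ∈ S := by
    simpa [pw_ne_zero hω] using S.smul_mem (pw ω (2 * i * j))⁻¹ hsm
  have := mono_comm_iff hω (hcomm _ hmS _ h2)
  revert this hij
  clear * -
  revert i j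
  decide

/-- The core of the case of a root group of order two. -/
theorem rational_of_odd_normal (F₀ : Subfield F) (hω : ω ^ 2 + ω + 1 = 0) (hωF : ω ∈ F₀)
    {K N : Subgroup (GL (Fin 3) F)} (hnorm : ∀ g ∈ K, ∀ n ∈ N, g * n * g⁻¹ ∈ N)
    (hodd : Odd (Nat.card N)) {x y s : GL (Fin 3) F}
    (hx : (x : Matrix (Fin 3) (Fin 3) F) = mono ω 1 0) (hy : (y : Matrix (Fin 3) (Fin 3) F) = mono ω 0 1)
    (hs : (s : Matrix (Fin 3) (Fin 3) F) = four ω) (hxN : x ∈ N) (hyN : y ∈ N) (hsK : s ∈ K) :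
    ∀ g ∈ K, g ∈ Cfsg.Geo.subfieldSubgroup F₀ 1 := by
  classical
  set Z := Subgroup.center (GL (Fin 3) F) with hZ
  -- the last non-scalar term
  obtain ⟨m, hm, hm'⟩ : ∃ m, ¬ chain N m ≤ Z ∧ chain N (m + 1) ≤ Z := by
    by_contra h
    push Not at h
    have hall : ∀ m, ¬ chain N m ≤ Z := by
      intro m
      induction m with
      | zero =>
        intro h0
        obtain ⟨k, hk⟩ := scalar_of_center (h0 hxN)
        have := congrFun (congrFun (hx ▸ hk) 1) 0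
        simp [mono_apply, pw_zero] at this
      | succ m ih => exact h m ih
    obtain ⟨n, hn⟩ := (Cfsg.Agent.S0205.result hodd).solvable
    exact hall n (by rw [chain_eq_map, hn, Subgroup.map_bot]; exact bot_le)
  set A := chain N m with hA
  have hAN : A ≤ N := by rw [hA, chain_eq_map]; exact Subgroup.map_subtype_le _
  have hAinv : ∀ g, (g ∈ K ∨ g ∈ N) → ∀ a ∈ A, g * a * g⁻¹ ∈ A := fun g hg =>
    conj_mem_chain (fun n hn => hg.elim (fun h => hnorm g h n hn)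
      (fun h => N.mul_mem (N.mul_mem h hn) (N.inv_mem h))) m
  have hgen : ∀ g, g = x ∨ g = y ∨ g = s → ∀ a ∈ A, g * a * g⁻¹ ∈ A := by
    rintro g (rfl | rfl | rfl)
    · exact hAinv _ (Or.inr hxN)
    · exact hAinv _ (Or.inr hyN)
    · exact hAinv _ (Or.inl hsK)
  have hcom : ∀ a ∈ A, ∀ b ∈ A, ⁅a, b⁆ ∈ Z := fun a ha b hb =>
    hm' (Subgroup.commutator_mem_commutator ha hb)
  -- cubes are scalar
  have hcube : ∀ a ∈ A, a ^ 3 ∈ Z := by
    have hctr : ∀ a ∈ {a : GL (Fin 3) F | a ∈ A ∧ ∀ b ∈ A, a * b = b * a}, a ∈ Z := by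
      refine scalar_of_abelian hω hx hy hs _ (fun a ha b hb => ha.2 b hb.1) ?_
      rintro g hg a ⟨ha, hab⟩
      refine ⟨hgen g hg a ha, fun b hb => ?_⟩
      have hb' : g⁻¹ * b * g ∈ A := by
        have : Finite (GL (Fin 3) F) := inferInstance
        obtain ⟨k, hk⟩ : ∃ k : ℕ, g⁻¹ = g ^ k := ⟨orderOf g - 1, inv_eq_of_mul_eq_one_right (by
          rw [← pow_succ', Nat.sub_add_cancel (orderOf_pos g), pow_orderOf_eq_one])⟩
        have hit : ∀ j : ℕ, g ^ j * b * (g ^ j)⁻¹ ∈ A := by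
          intro j
          induction j with
          | zero => simpa using hb
          | succ j ih =>
            have := hgen g hg _ ih
            simpa [pow_succ', mul_assoc] using this
        have := hit k
        rwa [← hk, inv_inv] at this
      have := hab _ hb'
      calc g * a * g⁻¹ * b = g * (a * (g⁻¹ * b * g)) * g⁻¹ := by group
        _ = g * ((g⁻¹ * b * g) * a) * g⁻¹ := by rw [this]
        _ = b * (g * a * g⁻¹) := by group
    intro a ha
    refine hctr _ ⟨A.pow_mem ha 3, fun b hb => ?_⟩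
    have hz := hcom b hb a ha
    have hz3 := pow_three_of_commutator hz
    have e : b * a * b⁻¹ = ⁅b, a⁆ * a := by rw [commutatorElement_def]; group
    have e3 : b * a ^ 3 * b⁻¹ = a ^ 3 := by
      have h1 : Commute ⁅b, a⁆ a := (Subgroup.mem_center_iff.mp hz a).symm
      rw [← conj_pow, e, h1.mul_pow, hz3, one_mul]
    calc a ^ 3 * b = b * a ^ 3 * b⁻¹ * b := by rw [e3]
      _ = b * a ^ 3 := by group
  -- a non-scalar element fixed by conjugation with `x` and `y` modulo scalars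
  let π := QuotientGroup.mk' Z
  have hπ : ∀ g : GL (Fin 3) F, π g = 1 ↔ g ∈ Z := fun g => QuotientGroup.eq_one_iff g
  have hx3 : x ^ 3 = 1 := Units.ext (by
    rw [Units.val_pow_eq_pow_val, hx, pow_succ, pow_succ, pow_one, mono_mul hω, Matrix.smul_mul, mono_mul hω,
      show (1 : Fin 3) + 1 + 1 = 0 by decide]
    simp [pw_zero, mono_zero])
  have hy3 : y ^ 3 = 1 := Units.ext (by
    rw [Units.val_pow_eq_pow_val, hy, pow_succ, pow_succ, pow_one, mono_mul hω, Matrix.smul_mul, mono_mul hω,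
      show (1 : Fin 3) + 1 + 1 = 0 by decide]
    simp [pw_zero, mono_zero])
  have hD3 : ∀ g, g ^ 3 = 1 → (∀ a ∈ A, g * a * g⁻¹ ∈ A) → ∀ a ∈ A,
      ⁅g, ⁅g, ⁅g, a⁆⁆⁆ ∈ Z := by
    intro g hg3 hgA a ha
    set p₀ := π a with hp₀
    set p₁ := π (g * a * g⁻¹) with hp₁
    set p₂ := π (g * (g * a * g⁻¹) * g⁻¹) with hp₂
    have hg : π g ^ 3 = 1 := by rw [← map_pow, hg3, map_one]
    have h1 := hgA a ha
    have h2 := hgA _ h1
    have hcm : ∀ {u v}, u ∈ A → v ∈ A → Commute (π u) (π v) := fun {u v} hu hv => by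
      rw [← commutatorElement_eq_one_iff_commute, ← map_commutatorElement, hπ]
      exact hcom u hu v hv
    have c01 := hcm ha h1
    have c02 := hcm ha h2
    have c12 := hcm h1 h2
    have q1 : p₁ ^ 3 = 1 := by rw [hp₁, ← map_pow, hπ]; exact hcube _ h1
    have q2 : p₂ ^ 3 = 1 := by rw [hp₂, ← map_pow, hπ]; exact hcube _ h2
    have t0 : π g * p₀ * (π g)⁻¹ = p₁ := by simp [hp₀, hp₁]
    have t1 : π g * p₁ * (π g)⁻¹ = p₂ := by simp [hp₁, hp₂]
    have t2 : π g * p₂ * (π g)⁻¹ = p₀ := by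
      have e : π g * p₂ * (π g)⁻¹ = π g ^ 3 * p₀ * (π g ^ 3)⁻¹ := by
        rw [← t1, ← t0, pow_succ, pow_succ, pow_one]; group
      rw [e, hg]; simp
    rw [← hπ]
    have e1 : π ⁅g, a⁆ = p₁ * p₀⁻¹ := by rw [map_commutatorElement, commutatorElement_def, t0]
    have e2 : π ⁅g, ⁅g, a⁆⁆ = p₂ * p₁⁻¹ * (p₁ * p₀⁻¹)⁻¹ := by
      rw [map_commutatorElement, e1, commutatorElement_def,
        show π g * (p₁ * p₀⁻¹) * (π g)⁻¹ = (π g * p₁ * (π g)⁻¹) * (π g * p₀ * (π g)⁻¹)⁻¹ by group, t0, t1]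
    rw [map_commutatorElement, e2, commutatorElement_def,
      show π g * (p₂ * p₁⁻¹ * (p₁ * p₀⁻¹)⁻¹) * (π g)⁻¹ =
        (π g * p₂ * (π g)⁻¹) * (π g * p₁ * (π g)⁻¹)⁻¹ *
          ((π g * p₁ * (π g)⁻¹) * (π g * p₀ * (π g)⁻¹)⁻¹)⁻¹ by group, t0, t1, t2]
    simp only [_root_.mul_inv_rev, inv_inv]
    have k1 : p₁ * p₂⁻¹ = p₂⁻¹ * p₁ := c12.inv_right.eq
    calc p₀ * p₂⁻¹ * (p₁ * p₂⁻¹) * (p₁ * p₀⁻¹ * (p₁ * p₂⁻¹))
        = p₀ * p₂⁻¹ * p₂⁻¹ * (p₁ * p₁) * (p₀⁻¹ * p₁) * p₂⁻¹ := by nth_rewrite 1 [k1]; group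
      _ = p₀ * p₂⁻¹ * p₂⁻¹ * (p₁ * p₁) * (p₁ * p₀⁻¹) * p₂⁻¹ := by rw [c01.inv_left.eq]
      _ = p₀ * p₂⁻¹ * p₂⁻¹ * (p₁ ^ 3) * (p₀⁻¹ * p₂⁻¹) := by rw [pow_succ, sq]; group
      _ = p₀ * p₂⁻¹ * p₂⁻¹ * (p₂⁻¹ * p₀⁻¹) := by rw [q1, mul_one, c02.inv_inv.eq]
      _ = p₀ * (p₂ ^ 3)⁻¹ * p₀⁻¹ := by group
      _ = 1 := by rw [q2]; group
  have hDmem : ∀ g, (∀ a ∈ A, g * a * g⁻¹ ∈ A) → ∀ a ∈ A, ⁅g, a⁆ ∈ A := fun g hg a ha => by
    rw [commutatorElement_def]; exact A.mul_mem (hg a ha) (A.inv_mem ha)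
  obtain ⟨a₀, ha₀, ha₀Z⟩ := SetLike.not_le_iff_exists.mp hm
  have hstep : ∀ g, g ^ 3 = 1 → (∀ a ∈ A, g * a * g⁻¹ ∈ A) → ∀ (P : GL (Fin 3) F → Prop),
      (∀ a ∈ A, P a → P ⁅g, a⁆) → ∀ a ∈ A, a ∉ Z → P a → ∃ b ∈ A, b ∉ Z ∧ P b ∧ ⁅g, b⁆ ∈ Z := by
    intro g hg3 hgA P hP a ha haZ hPa
    by_cases h1 : ⁅g, a⁆ ∈ Z
    · exact ⟨a, ha, haZ, hPa, h1⟩
    have ha1 := hDmem g hgA a ha
    have hP1 := hP a ha hPa
    by_cases h2 : ⁅g, ⁅g, a⁆⁆ ∈ Z
    · exact ⟨_, ha1, h1, hP1, h2⟩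
    exact ⟨_, hDmem g hgA _ ha1, h2, hP _ ha1 hP1, hD3 g hg3 hgA a ha⟩
  obtain ⟨a₁, ha₁, ha₁Z, -, ha₁x⟩ := hstep x hx3 (hgen x (Or.inl rfl)) (fun _ => True) (fun _ _ _ => trivial)
    a₀ ha₀ ha₀Z trivial
  have hxy : π x * π y = π y * π x := by
    rw [← map_mul, ← map_mul]
    refine (QuotientGroup.eq).mpr (center_of_scalar (k := pw ω 1) ?_)
    have e : (x * y)⁻¹ * (y * x) = (x * y)⁻¹ * (y * x) := rfl
    have h1 : ((y * x : GL (Fin 3) F) : Matrix (Fin 3) (Fin 3) F) = pw ω 1 • ((x * y : GL (Fin 3) F) : Matrix (Fin 3) (Fin 3) F) := by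
      rw [Units.val_mul, Units.val_mul, hx, hy, mono_mul hω, mono_mul hω]
      simp [pw_zero, pw, smul_smul]
    rw [Units.val_mul, h1, Matrix.mul_smul, ← Units.val_mul, inv_mul_cancel, Units.val_one]
  obtain ⟨c, hc, hcZ, hcx, hcy⟩ := hstep y hy3 (hgen y (Or.inr (Or.inl rfl))) (fun b => ⁅x, b⁆ ∈ Z)
    (fun a ha h => by
      rw [← hπ, map_commutatorElement, map_commutatorElement]
      have h' : Commute (π x) (π a) := by
        rw [← commutatorElement_eq_one_iff_commute, ← map_commutatorElement, hπ]; exact h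
      exact commutatorElement_eq_one_iff_commute.mpr
        (((show Commute (π x) (π y) from hxy).mul_right h').mul_right
          (show Commute (π x) (π y) from hxy).inv_right |>.mul_right h'.inv_right))
    a₁ ha₁ ha₁Z ha₁x
  -- monomial elements
  have hcu : ∀ g b : GL (Fin 3) F, ⁅g, b⁆ ∈ Z →
      ∃ k : F, (g : Matrix (Fin 3) (Fin 3) F) * b * ((g⁻¹ : GL (Fin 3) F) : Matrix (Fin 3) (Fin 3) F)
        = k • (b : Matrix (Fin 3) (Fin 3) F) := by
    intro g b h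
    obtain ⟨k, hk⟩ := comm_of_center h
    exact ⟨k, by rw [hk, Matrix.smul_mul, mul_assoc, ← Units.val_mul, mul_inv_cancel, Units.val_one, mul_one]⟩
  have hx' : ((x⁻¹ : GL (Fin 3) F) : Matrix (Fin 3) (Fin 3) F) = mono ω 2 0 :=
    Units.inv_eq_of_mul_eq_one_right (by
      rw [hx, mono_mul hω, show (1 : Fin 3) + 2 = 0 by decide]; simp [pw_zero, mono_zero])
  have hy' : ((y⁻¹ : GL (Fin 3) F) : Matrix (Fin 3) (Fin 3) F) = mono ω 0 2 :=
    Units.inv_eq_of_mul_eq_one_right (by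
      rw [hy, mono_mul hω, show (1 : Fin 3) + 2 = 0 by decide]; simp [pw_zero, mono_zero])
  let Idx : GL (Fin 3) F → Fin 3 → Fin 3 → Prop := fun b i j =>
    ∃ k : F, k ≠ 0 ∧ (b : Matrix (Fin 3) (Fin 3) F) = k • mono ω i j
  have hmonoOf : ∀ b : GL (Fin 3) F, (∃ k : F, cX ω (b : Matrix (Fin 3) (Fin 3) F) = k • (b : Matrix (Fin 3) (Fin 3) F)) →
      (∃ k : F, cY ω (b : Matrix (Fin 3) (Fin 3) F) = k • (b : Matrix (Fin 3) (Fin 3) F)) → ∃ i j, Idx b i j := by
    rintro b ⟨k, hk⟩ ⟨l, hl⟩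
    have hb0 : (b : Matrix (Fin 3) (Fin 3) F) ≠ 0 := b.ne_zero
    obtain ⟨t, i, j, ht⟩ := monomial_of_eigen hω hb0 hk hl
    exact ⟨i, j, t, fun h0 => hb0 (by rw [ht, h0, zero_smul]), ht⟩
  obtain ⟨i, j, hcI⟩ := hmonoOf c
    (by obtain ⟨k, hk⟩ := hcu x c hcx; exact ⟨k, by rw [hx, hx'] at hk; exact hk⟩)
    (by obtain ⟨k, hk⟩ := hcu y c hcy; exact ⟨k, by rw [hy, hy'] at hk; exact hk⟩)
  have hij : ¬ (i = 0 ∧ j = 0) := by
    rintro ⟨rfl, rfl⟩
    obtain ⟨k, -, hk⟩ := hcI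
    exact hcZ (center_of_scalar (by rw [hk, mono_zero]))
  have hmulI : ∀ {a b : GL (Fin 3) F} {i j k l : Fin 3}, Idx a i j → Idx b k l → Idx (a * b) (i + k) (j + l) := by
    rintro a b i j k l ⟨u, hu, hau⟩ ⟨v, hv, hbv⟩
    exact ⟨u * v * pw ω (j * k), mul_ne_zero (mul_ne_zero hu hv) (pw_ne_zero hω _), by
      rw [Units.val_mul, hau, hbv, Matrix.smul_mul, Matrix.mul_smul, mono_mul hω, smul_smul, smul_smul]⟩
  have hscI : Idx (s * c * s⁻¹) (2 * j) i := by
    obtain ⟨k, hk0, hk⟩ := hcI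
    refine ⟨k * pw ω (2 * i * j), mul_ne_zero hk0 (pw_ne_zero hω _), ?_⟩
    rw [Units.val_mul, Units.val_mul, hk, Matrix.mul_smul, hs, four_mul_mono hω, ← hs, smul_smul,
      Matrix.smul_mul, mul_assoc (mono ω (2 * j) i), ← Units.val_mul, mul_inv_cancel, Units.val_one, mul_one]
  have hidx : ∀ k l : Fin 3, ∃ a ∈ A, Idx a k l := by
    intro k l
    have hpow : ∀ {a : GL (Fin 3) F} {i j : Fin 3}, a ∈ A → Idx a i j → ∀ n : Fin 3,
        ∃ b ∈ A, Idx b (n * i) (n * j) := by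
      intro a i j ha hI n
      fin_cases n
      · exact ⟨1, A.one_mem, 1, one_ne_zero, by simp [mono_zero]⟩
      · exact ⟨a, ha, by simpa using hI⟩
      · exact ⟨a * a, A.mul_mem ha ha, by simpa [two_mul] using hmulI hI hI⟩
    obtain ⟨u, v, huv⟩ : ∃ u v : Fin 3, u * i + v * (2 * j) = k ∧ u * j + v * i = l := by
      revert hij
      clear * -
      revert i j k l
      decide
    obtain ⟨b, hb, hbI⟩ := hpow hc hcI u
    obtain ⟨b', hb', hb'I⟩ := hpow (hgen s (Or.inr (Or.inr rfl)) c hc) hscI v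
    exact ⟨b * b', A.mul_mem hb hb', huv.1 ▸ huv.2 ▸ hmulI hbI hb'I⟩
  have hAmono : ∀ b ∈ A, ∃ i j, Idx b i j := by
    intro b hb
    have key : ∀ (g : GL (Fin 3) F) (k l : Fin 3), (g : Matrix (Fin 3) (Fin 3) F) = mono ω k l →
        ∃ t : F, (g : Matrix (Fin 3) (Fin 3) F) * b * ((g⁻¹ : GL (Fin 3) F) : Matrix (Fin 3) (Fin 3) F)
          = t • (b : Matrix (Fin 3) (Fin 3) F) := by
      intro g k l hg
      obtain ⟨a, ha, t, ht, hat⟩ := hidx k l
      obtain ⟨z, hz⟩ := comm_of_center (hcom a ha b hb)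
      rw [hat, Matrix.smul_mul, Matrix.mul_smul, smul_comm z t] at hz
      refine ⟨z, ?_⟩
      have hz' : mono ω k l * (b : Matrix (Fin 3) (Fin 3) F) = z • ((b : Matrix (Fin 3) (Fin 3) F) * mono ω k l) :=
        smul_right_injective _ ht hz
      rw [hg, hz', Matrix.smul_mul, ← hg, mul_assoc, ← Units.val_mul, mul_inv_cancel,
        Units.val_one, mul_one]
    refine hmonoOf b ?_ ?_
    · obtain ⟨t, ht⟩ := key x 1 0 hx; exact ⟨t, by rw [hx, hx'] at ht; exact ht⟩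
    · obtain ⟨t, ht⟩ := key y 0 1 hy; exact ⟨t, by rw [hy, hy'] at ht; exact ht⟩
  -- rationality
  intro g hg
  have hmr : ∀ i j r t : Fin 3, mono ω i j r t ∈ F₀ := fun i j r t => by
    rw [mono_apply]
    split
    · exact F₀.pow_mem hωF _
    · exact F₀.zero_mem
  have hkey : ∀ (w : GL (Fin 3) F) (k l : Fin 3), w ^ 3 = 1 → (w : Matrix (Fin 3) (Fin 3) F) = mono ω k l →
      ∀ r t, ((g * w * g⁻¹ : GL (Fin 3) F) : Matrix (Fin 3) (Fin 3) F) r t ∈ F₀ := by
    intro w k l hw3 hw r t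
    obtain ⟨a, ha, u, hu, hau⟩ := hidx k l
    obtain ⟨i, j, v, hv, hv'⟩ := hAmono _ (hAinv g (Or.inl hg) a ha)
    obtain ⟨z, hz⟩ : ∃ z : F, ((g * w * g⁻¹ : GL (Fin 3) F) : Matrix (Fin 3) (Fin 3) F) = z • mono ω i j := by
      refine ⟨u⁻¹ * v, ?_⟩
      rw [← smul_smul, ← hv']
      simp only [Units.val_mul]
      rw [hau, ← hw, Matrix.mul_smul, Matrix.smul_mul, smul_smul, inv_mul_cancel₀ hu, one_smul]
    have hz3 : z ^ 3 = 1 := by
      have h1 : (g * w * g⁻¹) ^ 3 = 1 := by rw [conj_pow, hw3]; group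
      have h2 : mono ω i j ^ 3 = (1 : Matrix (Fin 3) (Fin 3) F) := by
        rw [pow_succ, pow_succ, pow_one, mono_mul hω, Matrix.smul_mul, mono_mul hω, smul_smul, ← pw_add hω,
          show j * i + (j + j) * i = 0 by clear * -; revert i j; decide,
          show i + i + i = 0 by clear * -; revert i; decide, show j + j + j = 0 by clear * -; revert j; decide]
        simp [pw_zero, mono_zero]
      have := congrArg Units.val h1
      rw [Units.val_pow_eq_pow_val, hz, smul_pow, h2, Units.val_one] at this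
      simpa using congrFun (congrFun this 0) 0
    have hzF : z ∈ F₀ := by
      have h2 : (2 : F) = 0 := CharTwo.two_eq_zero
      have : (z - 1) * ((z - ω) * (z - ω ^ 2)) = 0 := by linear_combination hz3 + (z - z ^ 2) * hω
        + (-1 : F) * (omega_cube hω) + z * (omega_cube hω)
      rcases mul_eq_zero.1 this with h | h
      · rw [sub_eq_zero.1 h]; exact F₀.one_mem
      rcases mul_eq_zero.1 h with h | h
      · rw [sub_eq_zero.1 h]; exact hωF
      · rw [sub_eq_zero.1 h]; exact F₀.pow_mem hωF _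
    rw [hz]
    exact F₀.mul_mem hzF (hmr i j r t)
  let Rt : Subring (Matrix (Fin 3) (Fin 3) F) := Subring.mk'
    {u | ∀ r t, u r t ∈ F₀}
    { carrier := {u | ∀ r t, u r t ∈ F₀}
      mul_mem' := fun {u v} hu hv r t => by
        rw [Matrix.mul_apply]; exact sum_mem fun k _ => F₀.mul_mem (hu r k) (hv k t)
      one_mem' := fun r t => by
        rw [Matrix.one_apply]; split
        · exact F₀.one_mem
        · exact F₀.zero_mem }
    { carrier := {u | ∀ r t, u r t ∈ F₀}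
      add_mem' := fun {u v} hu hv r t => F₀.add_mem (hu r t) (hv r t)
      zero_mem' := fun r t => F₀.zero_mem
      neg_mem' := fun {u} hu r t => F₀.neg_mem (hu r t) } rfl rfl
  -- conjugates of the first column matrix units
  let cg : Matrix (Fin 3) (Fin 3) F → Matrix (Fin 3) (Fin 3) F := fun u =>
    (g : Matrix (Fin 3) (Fin 3) F) * u * ((g⁻¹ : GL (Fin 3) F) : Matrix (Fin 3) (Fin 3) F)
  have hRx : cg (mono ω 1 0) ∈ Rt := fun r t => by simpa [cg, hx] using hkey x 1 0 hx3 hx r t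
  have hRy : cg (mono ω 0 1) ∈ Rt := fun r t => by simpa [cg, hy] using hkey y 0 1 hy3 hy r t
  have hcgmul : ∀ u v, cg u * cg v = cg (u * v) := fun u v => by
    simp only [cg]
    rw [mul_assoc (_ * u), ← mul_assoc ((g⁻¹ : GL (Fin 3) F) : Matrix (Fin 3) (Fin 3) F),
      ← mul_assoc ((g⁻¹ : GL (Fin 3) F) : Matrix (Fin 3) (Fin 3) F), ← Units.val_mul, inv_mul_cancel,
      Units.val_one, one_mul, ← mul_assoc, ← mul_assoc]
  have hE0 : cg (1 + mono ω 0 1 + mono ω 0 1 * mono ω 0 1) ∈ Rt := by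
    have e : cg (1 + mono ω 0 1 + mono ω 0 1 * mono ω 0 1) = 1 + cg (mono ω 0 1) + cg (mono ω 0 1) * cg (mono ω 0 1) := by
      rw [hcgmul]
      simp [cg, mul_add, add_mul]
    rw [e]
    exact Rt.add_mem (Rt.add_mem Rt.one_mem hRy) (Rt.mul_mem hRy hRy)
  have hE : (1 + mono ω 0 1 + mono ω 0 1 * mono ω 0 1 : Matrix (Fin 3) (Fin 3) F) = Matrix.single 0 0 1 := by
    ext r t
    rw [mono_mul hω]
    have h2 : (2 : F) = 0 := CharTwo.two_eq_zero
    fin_cases r <;> fin_cases t <;> simp [mono_apply, pw, Matrix.single_apply, Matrix.one_apply] <;> grind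
  have hcol : ∀ k : Fin 3, cg (Matrix.single k 0 1) ∈ Rt := by
    intro k
    have e : ∀ k : Fin 3, (Matrix.single k 0 1 : Matrix (Fin 3) (Fin 3) F) = mono ω k 0 * Matrix.single 0 0 1 := by
      intro k
      ext r t
      rw [Matrix.mul_apply, Finset.sum_eq_single 0 (fun u _ hu => by simp [Matrix.single_apply, Ne.symm hu]) (by simp)]
      simp [mono_apply, pw_zero, Matrix.single_apply, eq_comm]
      split_ifs <;> simp_all
    rw [e, ← hcgmul, ← hE]
    refine Rt.mul_mem ?_ hE0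
    fin_cases k
    · intro r t
      simpa [cg, mono_zero] using Rt.one_mem r t
    · exact hRx
    · have : mono ω 2 0 = mono ω 1 0 * mono ω 1 0 := by
        rw [mono_mul hω, show (1 : Fin 3) + 1 = 2 by decide]; simp [pw_zero]
      show cg (mono ω 2 0) ∈ Rt
      rw [this, ← hcgmul]
      exact Rt.mul_mem hRx hRx
  obtain ⟨k, hk⟩ : ∃ k, ((g⁻¹ : GL (Fin 3) F) : Matrix (Fin 3) (Fin 3) F) 0 k ≠ 0 := by
    by_contra h
    push Not at h
    have e : ((g⁻¹ * g : GL (Fin 3) F) : Matrix (Fin 3) (Fin 3) F) = 1 := by rw [inv_mul_cancel, Units.val_one]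
    have := congrFun (congrFun e 0) 0
    rw [Units.val_mul, Matrix.mul_apply] at this
    simp [h] at this
  refine CfsgLib.Subfield54.mem_subfield_of_entries (s₀ := (((g⁻¹ : GL (Fin 3) F) : Matrix (Fin 3) (Fin 3) F) 0 k)⁻¹)
    fun r t => ⟨_, hcol t r k, ?_⟩
  simp only [cg]
  rw [Matrix.mul_apply, Finset.sum_eq_single 0 (fun u _ hu => by simp [Matrix.mul_apply, Matrix.single_apply, Ne.symm hu])
    (by simp), Matrix.mul_apply, Finset.sum_eq_single t (fun u _ hu => by simp [Matrix.single_apply, Ne.symm hu])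
    (by simp)]
  simp only [Matrix.single_apply, and_self, if_true, mul_one]
  field_simp

end CfsgLib.SUThree90
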