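import Mathlib
import Cfsg.Agent.SUThree90.SubfieldCentre
import Cfsg.Agent.SUThree90.SubfieldTwoCore
import Cfsg.Agent.S0215

/-!
The case of two fixed rational scalars: a rational isotropic vector carries an irrational transvection.
-/

set_option autoImplicit false

namespace CfsgLib.SUThree90

open Matrix CfsgLib.TransvGL CfsgLib.UnitCentres CfsgLib.Subfield54 CfsgLib.Subfield54.SU
open scoped Fin.CommRing commutatorElement

set_option maxHeartbeats 1600000

variable {F : Type*} [Field F] [Fintype F] {F₀ : Subfield F} {σ : F ≃+* F}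
variable {f : (Fin 3 → F) → (Fin 3 → F) → F}
variable {M : Subgroup (GL (Fin 3) F)} {δ : F} (D : RatData σ f F₀ M δ)

include D in
theorem scalars_two (hE : Nat.card (F₀.comap (fixF σ).subtype) = 2) :
    (∀ x ∈ F₀, σ x = x → x = 0 ∨ x = 1) ∧ (2 : F) = 0 ∧ δ = 1 ∧
      ∃ ω ∈ F₀, ω ^ 2 + ω + 1 = 0 ∧ ω + σ ω = 1 ∧ ∀ n, σ (pw ω n) = pw ω (2 * n) := by
  classical
  have hf := D.herm
  have hfix : ∀ x ∈ F₀, σ x = x → x = 0 ∨ x = 1 := by
    intro x hx hσx
    obtain ⟨y, -, huniq⟩ := (Nat.card_eq_two_iff' (0 : F₀.comap (fixF σ).subtype)).mp hE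
    by_cases h0 : x = 0
    · exact Or.inl h0
    right
    have h1 := huniq ⟨⟨x, hσx⟩, hx⟩ (fun h => h0 (congrArg (fun e : F₀.comap (fixF σ).subtype => ((e : fixF σ) : F)) h))
    have h2 := huniq 1 one_ne_zero
    exact congrArg (fun e : F₀.comap (fixF σ).subtype => ((e : fixF σ) : F)) (h1.trans h2.symm)
  have h2 : (2 : F) = 0 := by
    rcases hfix 2 (by simpa [one_add_one_eq_two] using F₀.add_mem F₀.one_mem F₀.one_mem) (map_ofNat σ 2) with h | h
    · exact h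
    · exact absurd (show (1 : F) = 0 by linear_combination h) one_ne_zero
  haveI : CharP F 2 := CharTwo.of_one_ne_zero_of_two_eq_zero one_ne_zero h2
  obtain ⟨ω, hωF, hωne⟩ := D.conj_ne
  have hωs : ω + σ ω = 1 := by
    refine (hfix _ (F₀.add_mem hωF (D.conj_mem _ hωF)) (by rw [map_add, hf.involutive, add_comm])).resolve_left ?_
    intro h
    exact hωne (by linear_combination h - ω * h2)
  have hωn : ω * σ ω = 1 := by
    refine (hfix _ (F₀.mul_mem hωF (D.conj_mem _ hωF)) (by rw [map_mul, hf.involutive, mul_comm])).resolve_left ?_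
    intro h
    rcases mul_eq_zero.1 h with h | h
    · exact hωne (by rw [h, map_zero])
    · exact hωne (by rw [show ω = 0 by simpa using h, map_zero])
  have hσω : σ ω = 1 + ω := by linear_combination hωs - ω * h2
  have hω : ω ^ 2 + ω + 1 = 0 := by
    rw [hσω] at hωn
    linear_combination hωn + h2
  have hδ : δ = 1 := (hfix δ D.delta_mem (by linear_combination D.delta_tr - δ * h2)).resolve_left D.delta_ne
  have hσpw : ∀ n, σ (pw ω n) = pw ω (2 * n) := by
    have hσ2 : σ ω = ω ^ 2 := by rw [hσω]; linear_combination (-1 : F) * hω + (1 + ω) * h2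
    intro n
    have hc := omega_cube hω
    fin_cases n <;> simp [pw, map_pow, hσ2]
    linear_combination ω * hc
  exact ⟨hfix, h2, hδ, ω, hωF, hω, hωs, hσpw⟩

include D in
/-- A rational orthonormal basis. -/
theorem exists_std_basis (hfix : ∀ x ∈ F₀, σ x = x → x = 0 ∨ x = 1) (h2 : (2 : F) = 0) {ω : F}
    (hωF : ω ∈ F₀) (hωs : ω + σ ω = 1) :
    ∃ (B : GL (Fin 3) F) (es : Fin 3 → (Fin 3 → F)),
      (∀ i, Rat F₀ (es i)) ∧ (∀ i j, f (es i) (es j) = if i = j then 1 else 0) ∧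
      (∀ x, (B : Matrix (Fin 3) (Fin 3) F) *ᵥ x = x 0 • es 0 + x 1 • es 1 + x 2 • es 2) ∧
      (∀ x y : Fin 3 → F, f ((B : Matrix (Fin 3) (Fin 3) F) *ᵥ x) ((B : Matrix (Fin 3) (Fin 3) F) *ᵥ y)
        = x 0 * σ (y 0) + x 1 * σ (y 1) + x 2 * σ (y 2)) ∧
      (∀ x : Fin 3 → F, Rat F₀ x → Rat F₀ ((B : Matrix (Fin 3) (Fin 3) F) *ᵥ x)) ∧
      (∀ x : Fin 3 → F, Rat F₀ x → Rat F₀ (((B⁻¹ : GL (Fin 3) F) : Matrix (Fin 3) (Fin 3) F) *ᵥ x)) := by
  have hf := D.herm
  -- an orthonormal rational basis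
  obtain ⟨a₀, ha₀, ha₀0, ha₀a, -⟩ := exists_iso_rat D (k := 0) (by simp) ![] (fun a => a.elim0)
  obtain ⟨e, u, he, hu, hee, hae, hua, hue, huu⟩ := exists_frame D (by simp) ha₀ ha₀0 ha₀a
  have huu1 : f u u = 1 := (hfix _ (D.rat _ _ hu hu) (norm_fixed hf u)).resolve_left huu
  have hea : f e a₀ = 1 := by rw [hf.herm, hae, map_one]
  have hau := orth_comm hf hua
  have heu := orth_comm hf hue
  let es : Fin 3 → (Fin 3 → F) := ![u, e + ω • a₀, e + σ ω • a₀]
  have hesr : ∀ i, Rat F₀ (es i) := by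
    intro i
    fin_cases i
    · exact hu
    · exact he.add (ha₀.smul hωF)
    · exact he.add (ha₀.smul (D.conj_mem _ hωF))
  have horth : ∀ i j, f (es i) (es j) = if i = j then 1 else 0 := by
    intro i j
    fin_cases i <;> fin_cases j <;>
      simp [es, hf.add_left, add_right hf, hf.smul_left, smul_right hf, hee, hae, hea, ha₀a, hua, hue, hau, heu,
        huu1, hf.involutive] <;>
      first
        | linear_combination hωs
        | linear_combination ω * h2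
        | linear_combination σ ω * h2
  let Bm : Matrix (Fin 3) (Fin 3) F := Matrix.of fun r c => es c r
  let Bi : Matrix (Fin 3) (Fin 3) F := Matrix.of fun i r => f (Pi.single r 1) (es i)
  have hBi : ∀ x i, (Bi *ᵥ x) i = f x (es i) := by
    intro x i
    rw [← upair_apply hf (es i) x, dual_apply_eq_sum]
    simp only [Bi, Matrix.mulVec, dotProduct, Matrix.of_apply, upair_apply]
    exact Finset.sum_congr rfl fun r _ => mul_comm _ _
  have hBB : Bi * Bm = 1 := by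
    ext i j
    have h1 : (Bi * Bm) i j = (Bi *ᵥ es j) i := rfl
    rw [h1, hBi, horth, Matrix.one_apply]
    simp [eq_comm]
  let B : GL (Fin 3) F := ⟨Bm, Bi, mul_eq_one_comm.mp hBB, hBB⟩
  have hBv : ∀ x, (B : Matrix (Fin 3) (Fin 3) F) *ᵥ x = x 0 • es 0 + x 1 • es 1 + x 2 • es 2 := by
    intro x
    ext r
    show (Bm *ᵥ x) r = _
    simp [Bm, Matrix.mulVec, dotProduct, Fin.sum_univ_three]
    ring
  have hBf : ∀ x y : Fin 3 → F, f ((B : Matrix (Fin 3) (Fin 3) F) *ᵥ x) ((B : Matrix (Fin 3) (Fin 3) F) *ᵥ y)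
      = x 0 * σ (y 0) + x 1 * σ (y 1) + x 2 * σ (y 2) := by
    intro x y
    simp [hBv, hf.add_left, add_right hf, hf.smul_left, smul_right hf, horth]
  have hBr : ∀ x : Fin 3 → F, Rat F₀ x → Rat F₀ ((B : Matrix (Fin 3) (Fin 3) F) *ᵥ x) := by
    intro x hx
    rw [hBv]
    exact (((hesr 0).smul (hx 0)).add ((hesr 1).smul (hx 1))).add ((hesr 2).smul (hx 2))
  have hBir : ∀ x : Fin 3 → F, Rat F₀ x → Rat F₀ (((B⁻¹ : GL (Fin 3) F) : Matrix (Fin 3) (Fin 3) F) *ᵥ x) := by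
    intro x hx i
    show (Bi *ᵥ x) i ∈ F₀
    rw [hBi]
    exact D.rat _ _ hx (hesr i)
  exact ⟨B, es, hesr, horth, hBv, hBf, hBr, hBir⟩

include D in
/-- The generators of the rational group in the orthonormal basis. -/
theorem exists_std_gens [CharP F 2] {ω : F} (hωF : ω ∈ F₀) (hω : ω ^ 2 + ω + 1 = 0)
    (hσpw : ∀ n, σ (pw ω n) = pw ω (2 * n)) {B : GL (Fin 3) F}
    (hBf : ∀ x y : Fin 3 → F, f ((B : Matrix (Fin 3) (Fin 3) F) *ᵥ x) ((B : Matrix (Fin 3) (Fin 3) F) *ᵥ y)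
        = x 0 * σ (y 0) + x 1 * σ (y 1) + x 2 * σ (y 2))
    (hBr : ∀ x : Fin 3 → F, Rat F₀ x → Rat F₀ ((B : Matrix (Fin 3) (Fin 3) F) *ᵥ x))
    (hBir : ∀ x : Fin 3 → F, Rat F₀ x → Rat F₀ (((B⁻¹ : GL (Fin 3) F) : Matrix (Fin 3) (Fin 3) F) *ᵥ x)) :
    ∃ xg yg sg : GL (Fin 3) F, (xg : Matrix (Fin 3) (Fin 3) F) = mono ω 1 0 ∧
      (yg : Matrix (Fin 3) (Fin 3) F) = mono ω 0 1 ∧ (sg : Matrix (Fin 3) (Fin 3) F) = four ω ∧
      B * xg * B⁻¹ ∈ M ∧ B * yg * B⁻¹ ∈ M ∧ B * sg * B⁻¹ ∈ M := by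
  have hf := D.herm
  have hpwF : ∀ n, pw ω n ∈ F₀ := fun n => F₀.pow_mem hωF _
  have hmem : ∀ m : GL (Fin 3) F, (∀ r c, (m : Matrix (Fin 3) (Fin 3) F) r c ∈ F₀) →
      (m : Matrix (Fin 3) (Fin 3) F).det = 1 →
      (∀ i j, ∑ r, (m : Matrix (Fin 3) (Fin 3) F) r i * σ ((m : Matrix (Fin 3) (Fin 3) F) r j)
        = if i = j then 1 else 0) →
      B * m * B⁻¹ ∈ M := by
    intro m hm hdet hu'
    refine D.rat_mem _ (fun x y => ?_) ?_ (fun x hx => ?_)
    · conv_rhs => rw [← mulVec_inv_mulVec B x, ← mulVec_inv_mulVec B y]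
      simp only [Units.val_mul, ← mulVec_mulVec]
      rw [hBf, hBf]
      generalize ((B⁻¹ : GL (Fin 3) F) : Matrix (Fin 3) (Fin 3) F) *ᵥ x = X
      generalize ((B⁻¹ : GL (Fin 3) F) : Matrix (Fin 3) (Fin 3) F) *ᵥ y = Y
      have h00 := hu' 0 0
      have h01 := hu' 0 1
      have h02 := hu' 0 2
      have h10 := hu' 1 0
      have h11 := hu' 1 1
      have h12 := hu' 1 2
      have h20 := hu' 2 0
      have h21 := hu' 2 1
      have h22 := hu' 2 2
      simp [Fin.sum_univ_three] at h00 h01 h02 h10 h11 h12 h20 h21 h22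
      simp [Matrix.mulVec, dotProduct, Fin.sum_univ_three, map_add, map_mul]
      linear_combination X 0 * σ (Y 0) * h00 + X 0 * σ (Y 1) * h01 + X 0 * σ (Y 2) * h02
        + X 1 * σ (Y 0) * h10 + X 1 * σ (Y 1) * h11 + X 1 * σ (Y 2) * h12
        + X 2 * σ (Y 0) * h20 + X 2 * σ (Y 1) * h21 + X 2 * σ (Y 2) * h22
    · rw [Cfsg.Geo.specialLinear, MonoidHom.mem_ker, Units.ext_iff, GeneralLinearGroup.val_det_apply, Units.val_one, Units.val_mul, Units.val_mul, det_mul, det_mul,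
        mul_comm (B : Matrix (Fin 3) (Fin 3) F).det, mul_assoc, ← det_mul, ← Units.val_mul, mul_inv_cancel,
        Units.val_one, det_one, mul_one, hdet]
    · simp only [Units.val_mul, ← mulVec_mulVec]
      refine hBr _ fun r => ?_
      rw [Matrix.mulVec, dotProduct]
      exact sum_mem fun c _ => F₀.mul_mem (hm r c) (hBir x hx c)
  have hmd : ∀ i j : Fin 3, (i = 1 ∧ j = 0) ∨ (i = 0 ∧ j = 1) → (mono ω i j).det = 1 := by
    intro i j hij
    have hc := omega_cube hω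
    rcases hij with ⟨rfl, rfl⟩ | ⟨rfl, rfl⟩ <;> simp [det_fin_three, mono_apply, pw] <;> grind
  have hmu : ∀ i j a b : Fin 3, ∑ r, mono ω i j r a * σ (mono ω i j r b) = if a = b then 1 else 0 := by
    intro i j a b
    rw [Finset.sum_eq_single (a + i) (fun r _ hr => by simp [mono_apply, hr]) (by simp)]
    simp only [mono_apply, if_true, add_left_inj]
    split_ifs with h
    · subst h
      rw [hσpw, ← pw_add hω, show j * a + 2 * (j * a) = 0 by clear * -; revert j a; decide, pw_zero]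
    · simp
  have hfu : ∀ a b : Fin 3, ∑ r, four ω r a * σ (four ω r b) = if a = b then 1 else 0 := by
    intro a b
    have hs := pw_sum hω (a + 2 * b)
    simp only [Fin.sum_univ_three, four, Matrix.of_apply, hσpw, ← pw_add hω]
    rw [show (0 : Fin 3) * a + 2 * (0 * b) = 0 by simp, pw_zero,
      show (1 : Fin 3) * a + 2 * (1 * b) = a + 2 * b by clear * -; revert a b; decide,
      show (2 : Fin 3) * a + 2 * (2 * b) = a + 2 * b + (a + 2 * b) by clear * -; revert a b; decide, hs]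
    have e : (a + 2 * b = 0) = (a = b) := by clear * -; revert a b; decide
    simp [e]
  have hfd : (four ω).det = 1 := by
    have hc := omega_cube hω
    simp [det_fin_three, four, pw, Fin.val_mul]
    grind
  have hmF : ∀ i j r c, mono ω i j r c ∈ F₀ := fun i j r c => by
    rw [mono_apply]; split
    · exact hpwF _
    · exact F₀.zero_mem
  let xg : GL (Fin 3) F := GeneralLinearGroup.mkOfDetNeZero (mono ω 1 0)
    (by rw [hmd 1 0 (Or.inl ⟨rfl, rfl⟩)]; exact one_ne_zero)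
  let yg : GL (Fin 3) F := GeneralLinearGroup.mkOfDetNeZero (mono ω 0 1)
    (by rw [hmd 0 1 (Or.inr ⟨rfl, rfl⟩)]; exact one_ne_zero)
  let sg : GL (Fin 3) F := GeneralLinearGroup.mkOfDetNeZero (four ω) (by rw [hfd]; exact one_ne_zero)
  have hxv : (xg : Matrix (Fin 3) (Fin 3) F) = mono ω 1 0 := rfl
  have hyv : (yg : Matrix (Fin 3) (Fin 3) F) = mono ω 0 1 := rfl
  have hsv : (sg : Matrix (Fin 3) (Fin 3) F) = four ω := rfl
  have hxM : B * xg * B⁻¹ ∈ M := hmem xg (fun r c => hmF 1 0 r c) (hmd 1 0 (Or.inl ⟨rfl, rfl⟩)) (hmu 1 0)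
  have hyM : B * yg * B⁻¹ ∈ M := hmem yg (fun r c => hmF 0 1 r c) (hmd 0 1 (Or.inr ⟨rfl, rfl⟩)) (hmu 0 1)
  have hsM : B * sg * B⁻¹ ∈ M := hmem sg (fun r c => hpwF _) hfd hfu
  exact ⟨xg, yg, sg, hxv, hyv, hsv, hxM, hyM, hsM⟩

include D in
/-- Two transvections generating a two-group agree. -/
theorem eq_of_two_pow (hfix : ∀ x ∈ F₀, σ x = x → x = 0 ∨ x = 1) (h2 : (2 : F) = 0) [CharP F 2]
    {a a' : Fin 3 → F} (har : Rat F₀ a) (ha0 : a ≠ 0) (haa : f a a = 0) (ha'a : f a' a' = 0) (ha'0 : a' ≠ 0)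
    {d v : GL (Fin 3) F} (hvM : v ∈ M)
    (hdx : ∀ x, (d : Matrix (Fin 3) (Fin 3) F) *ᵥ x = x + (1 * f x a) • a)
    (hvx : ∀ x, (v : Matrix (Fin 3) (Fin 3) F) *ᵥ x = x + (1 * f x a') • a')
    (hrat : ∀ ν, ν + σ ν = 0 → TMem f M a ν → ν ∈ F₀) {k : ℕ} (hk' : (d * v) ^ 2 ^ k = 1) : v = d := by
  have hf := D.herm
  have hrow : ∀ b x : Fin 3 → F, (fun r => f (Pi.single r 1) b) ⬝ᵥ x = f x b := by
    intro b x
    rw [← upair_apply hf b x, dual_apply_eq_sum]
    exact Finset.sum_congr rfl fun r _ => by simp [mul_comm]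
  have hmat : ∀ (w : GL (Fin 3) F) (b : Fin 3 → F), (∀ x, (w : Matrix (Fin 3) (Fin 3) F) *ᵥ x = x + (1 * f x b) • b) →
      (w : Matrix (Fin 3) (Fin 3) F) = 1 + vecMulVec b (fun r => f (Pi.single r 1) b) := by
    intro w b hw
    refine Matrix.ext_iff_mulVec.mpr fun x => ?_
    rw [hw, add_mulVec, one_mulVec, vecMulVec_mulVec, hrow]
    simp
  have hnil : IsNilpotent (((d * v : GL (Fin 3) F) : Matrix (Fin 3) (Fin 3) F) - 1) :=
    ⟨2 ^ k, by
      rw [sub_pow_char_pow_of_commute 2 k (Commute.one_right _), one_pow, ← Units.val_pow_eq_pow_val, hk',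
        Units.val_one, sub_self]⟩
  have htr := (Matrix.isNilpotent_trace_of_isNilpotent hnil).eq_zero
  rw [Units.val_mul, hmat d a hdx, hmat v a' hvx] at htr
  have e : ∀ A C : Matrix (Fin 3) (Fin 3) F, (1 + A) * (1 + C) - 1 = A + C + A * C := fun A C => by noncomm_ring
  rw [e, trace_add, trace_add, trace_vecMulVec, trace_vecMulVec, vecMulVec_mul_vecMulVec, trace_vecMulVec,
    dotProduct_smul] at htr
  simp only [smul_eq_mul] at htr
  rw [dotProduct_comm a (fun r => f (Pi.single r 1) a), dotProduct_comm a' (fun r => f (Pi.single r 1) a'),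
    dotProduct_comm a (fun r => f (Pi.single r 1) a'), hrow, hrow, hrow, hrow, haa, ha'a] at htr
  have haa' : f a a' = 0 := by
    rw [hf.herm a' a] at htr
    simpa using htr
  obtain ⟨t, ht⟩ := mem_line_of_orth D (by simp) har ha0 haa ha'a haa'
  have hTa : TMem f M a (t * σ t) := ⟨haa, v, hvM, fun x => by
    rw [hvx, ht, smul_right hf, smul_smul]
    congr 2
    ring⟩
  have htF := hrat _ (by rw [map_mul, hf.involutive]; linear_combination (t * σ t) * h2) hTa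
  rcases hfix _ htF (by rw [map_mul, hf.involutive, mul_comm]) with h0 | h1
  · exfalso
    have ht0 : t = 0 := by simpa using h0
    exact ha'0 (by rw [ht, ht0, zero_smul])
  · refine ext_mulVec fun x => ?_
    rw [hdx, hvx, ht, smul_right hf, smul_smul]
    congr 2
    linear_combination f x a * h1

include D in
/-- An isolated transvection gives a normal subgroup of odd order. -/
theorem exists_odd_normal (hfix : ∀ x ∈ F₀, σ x = x → x = 0 ∨ x = 1) (h2 : (2 : F) = 0) [CharP F 2]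
    {a : Fin 3 → F} (har : Rat F₀ a) (ha0 : a ≠ 0) (haa : f a a = 0)
    {d : GL (Fin 3) F} (hdM : d ∈ M) (hdd : d * d = 1) (hd1 : d ≠ 1)
    (hdx : ∀ x, (d : Matrix (Fin 3) (Fin 3) F) *ᵥ x = x + (1 * f x a) • a)
    (hrat : ∀ ν, ν + σ ν = 0 → TMem f M a ν → ν ∈ F₀) :
    ∃ N : Subgroup M, N.Normal ∧ Odd (Nat.card N) ∧
      ∀ z : M, (⟨d, hdM⟩ : M) * z * (⟨d, hdM⟩ : M)⁻¹ * z⁻¹ ∈ N := by
  have hf := D.herm
  have hord : orderOf (⟨d, hdM⟩ : M) = 2 :=
    orderOf_eq_prime (Subtype.ext (by rw [SubgroupClass.coe_pow, sq]; exact hdd))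
      (fun h => hd1 (congrArg Subtype.val h))
  obtain ⟨P, hP⟩ := IsPGroup.exists_le_sylow (G := M) (p := 2) (P := Subgroup.zpowers ⟨d, hdM⟩)
    (IsPGroup.of_card (n := 1) (by rw [Nat.card_zpowers, hord, pow_one]))
  have hdP : (⟨d, hdM⟩ : M) ∈ P := hP (Subgroup.mem_zpowers _)
  obtain ⟨N, hN, hNodd, hNc⟩ := Cfsg.Agent.S0215.result P ⟨d, hdM⟩ hord hdP (by
    intro h hhP
    obtain ⟨k, hk⟩ := P.isPGroup' ⟨⟨d, hdM⟩ * (h * ⟨d, hdM⟩ * h⁻¹), P.mul_mem hdP hhP⟩
    have hvM : ((h : M) : GL (Fin 3) F) * d * ((h : M) : GL (Fin 3) F)⁻¹ ∈ M :=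
      M.mul_mem (M.mul_mem h.2 hdM) (M.inv_mem h.2)
    refine Subtype.ext ?_
    refine eq_of_two_pow D hfix h2 har ha0 haa (a' := (((h : M) : GL (Fin 3) F) : Matrix (Fin 3) (Fin 3) F) *ᵥ a)
      ?_ ?_ (d := d) hvM hdx ?_ hrat (k := k) ?_
    · rw [D.iso _ h.2, haa]
    · intro h0
      exact ha0 (by rw [← inv_mulVec_mulVec ((h : M) : GL (Fin 3) F) a, h0, mulVec_zero])
    · intro x
      show ((((h : M) : GL (Fin 3) F) * d * ((h : M) : GL (Fin 3) F)⁻¹ : GL (Fin 3) F) : Matrix (Fin 3) (Fin 3) F) *ᵥ x = _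
      rw [Units.val_mul, Units.val_mul, ← mulVec_mulVec, ← mulVec_mulVec]
      rw [hdx, mulVec_add, mulVec_smul, mulVec_inv_mulVec]
      conv_rhs => rw [← mulVec_inv_mulVec ((h : M) : GL (Fin 3) F) x, D.iso _ h.2]
      rw [mulVec_inv_mulVec]
    · exact congrArg (fun z : M => (z : GL (Fin 3) F)) (congrArg Subtype.val hk))
  exact ⟨N, hN, hNodd, hNc⟩

include D in
/-- With two fixed rational scalars, a subgroup above the subfield group has an irrational long root. -/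
theorem exists_long_root_two (hE : Nat.card (F₀.comap (fixF σ).subtype) = 2) {g : GL (Fin 3) F}
    (hg : g ∈ M) (hgH : g ∉ Cfsg.Geo.subfieldSubgroup F₀ 1) :
    ∃ a, Rat F₀ a ∧ a ≠ 0 ∧ f a a = 0 ∧
      ∃ ν, ν ∉ F₀ ∧ ν + σ ν = 0 ∧ ∀ x ∈ F₀, σ x = x → TMem f M a (x * ν) := by
  classical
  have hf := D.herm
  obtain ⟨hfix, h2, hδ, ω, hωF, hω, hωs, hσpw⟩ := scalars_two D hE
  haveI : CharP F 2 := CharTwo.of_one_ne_zero_of_two_eq_zero one_ne_zero h2
  obtain ⟨B, es, hesr, horth, hBv, hBf, hBr, hBir⟩ := exists_std_basis D hfix h2 hωF hωs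
  obtain ⟨xg, yg, sg, hxv, hyv, hsv, hxM, hyM, hsM⟩ := exists_std_gens D hωF hω hσpw hBf hBr hBir
  -- the transvection
  obtain ⟨a, ha⟩ : ∃ a, a = es 1 + es 2 := ⟨_, rfl⟩
  have har : Rat F₀ a := ha ▸ (hesr 1).add (hesr 2)
  have haa : f a a = 0 := by
    simp [ha, hf.add_left, add_right hf, horth]
    linear_combination h2
  have ha0 : a ≠ 0 := by
    intro h
    have := congrArg (fun v => f v (es 1)) (ha.symm.trans h)
    simp [hf.add_left, horth, zero_left hf] at this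
  obtain ⟨d, hd⟩ : ∃ d, d = B * (sg * sg) * B⁻¹ := ⟨_, rfl⟩
  have hdM : d ∈ M := by
    have e : d = (B * sg * B⁻¹) * (B * sg * B⁻¹) := by rw [hd]; group
    rw [e]; exact M.mul_mem hsM hsM
  have hsq : four ω * four ω = !![1, 0, 0; 0, 0, 1; 0, 1, 0] := by
    ext r c
    have hc := omega_cube hω
    fin_cases r <;> fin_cases c <;> simp [four, Matrix.mul_apply, Fin.sum_univ_three, pw, Fin.val_mul] <;> grind
  have hdx : ∀ x, (d : Matrix (Fin 3) (Fin 3) F) *ᵥ x = x + (1 * f x a) • a := by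
    intro x
    rw [hd, Units.val_mul, Units.val_mul, Units.val_mul, hsv, hsq, ← mulVec_mulVec, ← mulVec_mulVec]
    conv_rhs => rw [← mulVec_inv_mulVec B x]
    generalize ((B⁻¹ : GL (Fin 3) F) : Matrix (Fin 3) (Fin 3) F) *ᵥ x = X
    rw [hBv, hBv, ha]
    simp [Matrix.mulVec, dotProduct, Fin.sum_univ_three, hf.add_left, add_right hf, hf.smul_left, horth]
    linear_combination (norm := module) (-(X 1) • h2) • es 1 + (-(X 2) • h2) • es 2
  refine ⟨a, har, ha0, haa, ?_⟩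
  by_contra hno
  have hrat : ∀ ν, ν + σ ν = 0 → TMem f M a ν → ν ∈ F₀ := by
    intro ν hν hT
    by_contra hνF
    refine hno ⟨ν, hνF, hν, fun x hx hσx => ?_⟩
    rcases hfix x hx hσx with rfl | rfl
    · exact ⟨haa, 1, M.one_mem, fun x => by simp⟩
    · rwa [one_mul]
  have hdd : d * d = 1 := by
    apply ext_mulVec
    intro x
    rw [Units.val_mul, ← mulVec_mulVec, hdx, hdx, Units.val_one, one_mulVec]
    simp [hf.add_left, hf.smul_left, haa]
    linear_combination (norm := module) (f x a • h2) • a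
  have hd1 : d ≠ 1 := by
    intro h
    have := hdx (es 1)
    rw [h, Units.val_one, one_mulVec, ha] at this
    have h' := congrArg (fun v => f v (es 2)) this
    simp [hf.add_left, add_right hf, hf.smul_left, horth] at h'
  obtain ⟨N, hN, hNodd, hNc⟩ := exists_odd_normal D hfix h2 har ha0 haa hdM hdd hd1 hdx hrat
  -- transfer to the standard basis
  let c := (MulAut.conj B⁻¹).toMonoidHom
  have hc : ∀ z, c z = B⁻¹ * z * B := fun z => by simp [c]
  have hcc : ∀ z, c (B * z * B⁻¹) = z := fun z => by rw [hc]; group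
  have hNM : ∀ z ∈ M, d * z * d⁻¹ * z⁻¹ ∈ N.map M.subtype := fun z hz => ⟨_, hNc ⟨z, hz⟩, rfl⟩
  have hdgen : ∀ (z : GL (Fin 3) F) (i j : Fin 3), (z : Matrix (Fin 3) (Fin 3) F) = mono ω i j → i * j = 0 →
      c (d * (B * z * B⁻¹) * d⁻¹ * (B * z * B⁻¹)⁻¹) = z := by
    intro z i j hz hij
    rw [hc, hd]
    have e1 : sg * sg * z = (z * z) * (sg * sg) := by
      refine Units.ext ?_
      simp only [Units.val_mul, hz, hsv]
      rw [mul_assoc (four ω), four_mul_mono hω, Matrix.mul_smul, ← mul_assoc, four_mul_mono hω, Matrix.smul_mul,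
        smul_smul, mono_mul hω, Matrix.smul_mul, mul_assoc (mono ω (2 * i) (2 * j))]
      have hpw : pw ω (2 * i * j) * pw ω (2 * (2 * j) * i) = pw ω (j * i) := by
        rw [← pw_add hω]
        congr 1
        clear * - hij
        revert hij; revert i j; decide
      rw [hpw, two_mul, two_mul]
    calc B⁻¹ * (B * (sg * sg) * B⁻¹ * (B * z * B⁻¹) * (B * (sg * sg) * B⁻¹)⁻¹ * (B * z * B⁻¹)⁻¹) * B
        = (sg * sg * z) * (sg * sg)⁻¹ * z⁻¹ := by group
      _ = z := by rw [e1]; group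
  have hxN : xg ∈ (N.map M.subtype).map c :=
    ⟨_, hNM _ hxM, hdgen xg 1 0 hxv (by decide)⟩
  have hyN : yg ∈ (N.map M.subtype).map c :=
    ⟨_, hNM _ hyM, hdgen yg 0 1 hyv (by decide)⟩
  have hcore := rational_of_odd_normal F₀ hω hωF (K := M.map c) (N := (N.map M.subtype).map c)
    (by
      rintro _ ⟨m, hm, rfl⟩ _ ⟨_, ⟨n, hn, rfl⟩, rfl⟩
      rw [← map_inv c, ← map_mul c, ← map_mul c]
      exact ⟨_, ⟨_, hN.conj_mem n hn ⟨m, hm⟩, rfl⟩, rfl⟩)
    (by
      rwa [Subgroup.card_map_of_injective (MulAut.conj B⁻¹).injective,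
        Subgroup.card_map_of_injective M.subtype_injective])
    hxv hyv hsv hxN hyN ⟨_, hsM, hcc sg⟩ (c g) ⟨g, hg, rfl⟩
  apply hgH
  refine mem_subfield_of_ratLine fun v hv => ?_
  rw [CfsgLib.Aschbacher.mem_subfieldSubgroup_iff] at hcore
  obtain ⟨S, t, hSt⟩ := hcore
  simp only [inv_one, one_mul, mul_one, hc] at hSt
  have hge : g = B * (B⁻¹ * g * B) * B⁻¹ := by group
  rw [hge, hSt]
  refine ⟨(t : F), (B : Matrix (Fin 3) (Fin 3) F) *ᵥ
    ((S : Matrix (Fin 3) (Fin 3) F₀).map F₀.subtype *ᵥ (((B⁻¹ : GL (Fin 3) F) : Matrix (Fin 3) (Fin 3) F) *ᵥ v)),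
    hBr _ (fun r => by rw [Matrix.mulVec, dotProduct]; exact sum_mem fun k _ => F₀.mul_mem (S r k).2 (hBir v hv k)), ?_⟩
  simp only [Units.val_mul, ← mulVec_mulVec, ← mulVec_smul]
  congr 1
  ext r
  simp [Matrix.mulVec, dotProduct, Fin.sum_univ_three, GeneralLinearGroup.map_apply, Matrix.scalar_apply,
    Matrix.diagonal_apply]
  ring

end CfsgLib.SUThree90
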