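import Mathlib
import Cfsg.Agent.SUThree90.SubfieldTwo

/-!
Subfield subgroups of odd prime index of `SU₃(q)` are maximal.
-/

set_option autoImplicit false

namespace CfsgLib.SUThree90

open Matrix CfsgLib.TransvGL CfsgLib.UnitCentres CfsgLib.Subfield54 CfsgLib.Subfield54.SU

variable {F : Type*} [Field F] [Fintype F]

/-- A subgroup strictly above the subfield group has all centres. -/
theorem centre_of_not_le_three {F₀ : Subfield F} {σ : F ≃+* F} {f : (Fin 3 → F) → (Fin 3 → F) → F}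
    {M : Subgroup (GL (Fin 3) F)} {δ : F} (D : RatData σ f F₀ M δ) {r : ℕ} (hr : r.Prime) (hro : Odd r)
    (hcard : Fintype.card F = Nat.card F₀ ^ r)
    (hcardE : Nat.card (fixF σ) = Nat.card (F₀.comap (fixF σ).subtype) ^ r) {g : GL (Fin 3) F} (hg : g ∈ M)
    (hgH : g ∉ Cfsg.Geo.subfieldSubgroup F₀ 1) : ∀ y, f y y = 0 → Centre D.herm M y := by
  obtain ⟨a, ha, ha0, hac⟩ : ∃ a, Rat F₀ a ∧ a ≠ 0 ∧ Centre D.herm M a := by
    by_cases hE : Nat.card (F₀.comap (fixF σ).subtype) = 2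
    · obtain ⟨a, ha, ha0, haa, ν, hν, hνt, hνM⟩ := exists_long_root_two D hE hg hgH
      exact ⟨a, ha, ha0, centre_of_root D hr hcardE ha ha0 haa hν hνt hνM⟩
    · have h1 : 1 < Nat.card (F₀.comap (fixF σ).subtype) := Finite.one_lt_card
      obtain ⟨v, hv, hvv, hvL⟩ := exists_iso_moved_three D (by simp) hgH
      exact exists_centre_rat D hr hro hcard hcardE (by omega) (by simp) D.delta_ne D.delta_tr
        ((tmem_rat D hv hvv D.delta_mem D.delta_tr).conj hg (D.iso g hg)) hvL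
  exact centre_all D (by simp) ha ha0 hac

/-- The subfield subgroups of odd prime index are maximal in `SU₃(q)`. -/
theorem subfield_odd_maximal (q : ℕ) (hF : Fintype.card F = q ^ 2) (hq : 3 ≤ q) :
    ∀ (F₀ : Subfield F) (r : ℕ) (P : Matrix.GeneralLinearGroup (Fin 3) F), r.Prime → Odd r →
      Fintype.card F = Nat.card F₀ ^ r → Cfsg.Geo.IsFormRationalStructure (Cfsg.hermForm 3 F q) F₀ 1 P →
      Cfsg.Geo.IsMaximalIn (Cfsg.GU 3 F q ⊓ Cfsg.Geo.specialLinear (Fin 3) F)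
        (Cfsg.Geo.subfieldSubgroup F₀ P ⊓ (Cfsg.GU 3 F q ⊓ Cfsg.Geo.specialLinear (Fin 3) F)) := by
  intro F₀ r P hr hro hcard hP
  classical
  obtain ⟨σ, hσ, hstd⟩ := CfsgLib.LinAlg.Witt.exists_isUnitaryForm_hermForm (n := 3) hF
  have h3 : 3 ≤ r := by
    rcases hro with ⟨k, hk⟩
    have := hr.two_le
    omega
  have hF0 : F₀ ≠ ⊤ := by
    intro h
    have e : Nat.card F₀ = Fintype.card F := by
      rw [h, Nat.card_congr Subfield.topEquiv.toEquiv, Nat.card_eq_fintype_card]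
    rw [e] at hcard
    have := lt_self_pow₀ (Fintype.one_lt_card (α := F)) hr.one_lt
    omega
  have hconj : ∀ x ∈ F₀, σ x ∈ F₀ := fun x hx => hσ x ▸ F₀.pow_mem hx q
  have hEsq : Nat.card (fixF σ) ^ 2 = Fintype.card F := by
    have hne : ∃ z ∈ (⊤ : Subfield F), σ z ≠ z := by
      by_contra h
      push Not at h
      exact hstd.ne_refl (RingEquiv.ext fun x => h x trivial)
    have := card_fix_sq hstd.involutive ⊤ (fun _ _ => trivial) hne
    rwa [Subfield.comap_top, Nat.card_congr Subfield.topEquiv.toEquiv, Nat.card_congr Subfield.topEquiv.toEquiv,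
      Nat.card_eq_fintype_card (α := F)] at this
  have hne : ∃ z ∈ F₀, σ z ≠ z := by
    by_contra h
    push Not at h
    haveI := Fintype.ofFinite (fixF σ)
    have heq : Nat.card (F₀.comap (fixF σ).subtype) = Nat.card F₀ :=
      Nat.card_congr
        { toFun := fun x => ⟨((x : fixF σ) : F), x.2⟩
          invFun := fun x => ⟨⟨x, h x x.2⟩, x.2⟩
          left_inv := fun x => rfl
          right_inv := fun x => rfl }
    obtain ⟨m, -, hm⟩ := CfsgLib.Dickson.exists_pow_card (F₀.comap (fixF σ).subtype)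
    rw [heq, ← Nat.card_eq_fintype_card] at hm
    rw [← hm, hcard, ← pow_mul] at hEsq
    have := Nat.pow_right_injective Finite.one_lt_card hEsq
    rcases hro with ⟨k, hk⟩
    omega
  have hcardE : Nat.card (fixF σ) = Nat.card (F₀.comap (fixF σ).subtype) ^ r := by
    apply Nat.pow_left_injective two_ne_zero
    show Nat.card (fixF σ) ^ 2 = (Nat.card (F₀.comap (fixF σ).subtype) ^ r) ^ 2
    rw [hEsq, hcard, ← pow_mul, mul_comm r 2, pow_mul, card_fix_sq hstd.involutive F₀ hconj hne]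
  obtain ⟨z, hz, hzne⟩ := hne
  refine ⟨lt_of_le_of_ne inf_le_right fun h => ?_, fun M hHM hMS => ?_⟩
  · exact CfsgLib.AschPrime.not_le_subfieldSubgroup hF (by omega) hF0 P (h ▸ inf_le_left)
  by_cases hle : M ≤ Cfsg.Geo.subfieldSubgroup F₀ P
  · exact Or.inl (le_antisymm (le_inf hle hMS) hHM)
  refine Or.inr (le_antisymm hMS ?_)
  obtain ⟨g, hg, hgH⟩ := SetLike.not_le_iff_exists.mp hle
  let f : (Fin 3 → F) → (Fin 3 → F) → F := fun x y =>
    Cfsg.hermForm 3 F q ((P : Matrix (Fin 3) (Fin 3) F) *ᵥ x) ((P : Matrix (Fin 3) (Fin 3) F) *ᵥ y)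
  have hPinj : ∀ v : Fin 3 → F, v ≠ 0 → (P : Matrix (Fin 3) (Fin 3) F) *ᵥ v ≠ 0 := fun v hv h => hv (by
    rw [← inv_mulVec_mulVec P v, h, mulVec_zero])
  have hf : Cfsg.Geo.IsUnitaryForm σ f :=
    { ne_refl := hstd.ne_refl
      involutive := hstd.involutive
      add_left := fun x y v => by simp [f, mulVec_add, hstd.add_left]
      smul_left := fun c x v => by simp [f, mulVec_smul, hstd.smul_left]
      herm := fun v w => hstd.herm _ _
      nondegenerate := fun v hv => by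
        obtain ⟨⟨x, hx⟩, ⟨y, hy⟩⟩ := hstd.nondegenerate _ (hPinj v hv)
        refine ⟨⟨((P⁻¹ : GL (Fin 3) F) : Matrix (Fin 3) (Fin 3) F) *ᵥ x, ?_⟩,
          ⟨((P⁻¹ : GL (Fin 3) F) : Matrix (Fin 3) (Fin 3) F) *ᵥ y, ?_⟩⟩
        · simp only [f, mulVec_inv_mulVec]; exact hx
        · simp only [f, mulVec_inv_mulVec]; exact hy }
  set c := (MulAut.conj P).toMonoidHom with hc
  have e0 : ∀ (x : GL (Fin 3) F) (u : Fin 3 → F), (c x : GL (Fin 3) F).val *ᵥ ((P : Matrix (Fin 3) (Fin 3) F) *ᵥ u)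
      = (P : Matrix (Fin 3) (Fin 3) F) *ᵥ ((x : Matrix (Fin 3) (Fin 3) F) *ᵥ u) := by
    intro x u
    rw [hc, MulEquiv.coe_toMonoidHom, MulAut.conj_apply, Units.val_mul, Units.val_mul, ← mulVec_mulVec,
      ← mulVec_mulVec, inv_mulVec_mulVec]
  have hmem : ∀ x : GL (Fin 3) F, c x ∈ Cfsg.GU 3 F q ⊓ Cfsg.Geo.specialLinear (Fin 3) F ↔
      Iso f x ∧ x ∈ Cfsg.Geo.specialLinear (Fin 3) F := by
    intro x
    rw [CfsgLib.UnitCentres.mem_special]
    refine and_congr ⟨fun h u v => ?_, fun h u v => ?_⟩ ?_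
    · simp only [f, ← e0, h _ _]
    · have := h (((P⁻¹ : GL (Fin 3) F) : Matrix (Fin 3) (Fin 3) F) *ᵥ u)
        (((P⁻¹ : GL (Fin 3) F) : Matrix (Fin 3) (Fin 3) F) *ᵥ v)
      simp only [f, mulVec_inv_mulVec] at this
      rw [← e0 x, ← e0 x, mulVec_inv_mulVec, mulVec_inv_mulVec] at this
      exact this
    · simp [Cfsg.Geo.specialLinear, c]
  obtain ⟨δ, hδ, hδ0, hδt⟩ : ∃ δ ∈ F₀, δ ≠ 0 ∧ δ + σ δ = 0 :=
    ⟨z - σ z, F₀.sub_mem hz (hconj z hz), sub_ne_zero.2 (Ne.symm hzne), by rw [map_sub, hstd.involutive]; ring⟩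
  have D : RatData σ f F₀ (M.comap c) δ :=
    { herm := hf
      rat := fun u v hu hv => by simpa [f] using hP u v hu hv
      conj_mem := hconj
      delta_mem := hδ
      delta_ne := hδ0
      delta_tr := hδt
      conj_ne := ⟨z, hz, hzne⟩
      iso := fun x hx => ((hmem x).1 (hMS hx)).1
      rat_mem := fun x hx hxS hxr => hHM ⟨Subgroup.mem_map.mpr ⟨x, by
          simpa [Cfsg.Geo.subfieldSubgroup] using
            (mem_subfield_of_ratLine fun v hv => ⟨1, _, hxr v hv, (one_smul _ _).symm⟩ :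
              x ∈ Cfsg.Geo.subfieldSubgroup F₀ 1), rfl⟩, (hmem x).2 ⟨hx, hxS⟩⟩ }
  have hC := centre_of_not_le_three D hr hro hcard hcardE (g := P⁻¹ * g * P)
    (by simpa [c, ← mul_assoc] using hg) (by
      intro hm
      apply hgH
      simp only [Cfsg.Geo.subfieldSubgroup, Subgroup.mem_map] at hm ⊢
      obtain ⟨y, hy, hye⟩ := hm
      exact ⟨y, hy, by simp_all [mul_assoc]⟩)
  refine gu_le_of_centres_three hF hq hσ hstd fun v hv => ⟨hv, fun d hd => ?_⟩
  obtain ⟨hu, hM'⟩ := hC (((P⁻¹ : GL (Fin 3) F) : Matrix (Fin 3) (Fin 3) F) *ᵥ v)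
    (by simpa only [f, mulVec_inv_mulVec] using hv)
  have h5 : c (uT hf hu d) ∈ M := hM' d hd
  convert h5 using 1
  apply ext_mulVec
  intro x
  conv_rhs => rw [← mulVec_inv_mulVec P x, e0, uT_mulVec, mulVec_add, mulVec_smul, mulVec_inv_mulVec]
  rw [uT_mulVec]
  simp only [f, mulVec_inv_mulVec]

end CfsgLib.SUThree90
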